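import Mathlib.FieldTheory.PerfectClosure
import Mathlib.RingTheory.Flat.EquationalCriterion
import Mathlib.RingTheory.RingHom.Flat
import Mathlib.RingTheory.RingHom.FaithfullyFlat
import Mathlib.RingTheory.Flat.FaithfullyFlat.Algebra
import Mathlib.Algebra.CharP.Lemmas
import Mathlib.LinearAlgebra.Finsupp.LinearCombination

/-!
A ring with a `p`-basis has faithfully flat perfect closure.
-/

universe u

open Function

namespace Groth.Agent.PBasisPerf

variable (p : ℕ) [hp : Fact p.Prime] {R : Type u} [CommRing R] [CharP R p]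

theorem flat_of_bijective_sum {A S : Type u} [CommRing A] [CommRing S] (φ : A →+* S) {σ : Type u} (b : σ → S)
    (hb : Function.Bijective (fun c : σ →₀ A => c.sum fun e r => φ r * b e)) : φ.Flat := by
  algebraize [φ]
  have hbij : Function.Bijective (Finsupp.linearCombination A b) := by
    convert hb using 1
    funext c
    rw [Finsupp.linearCombination_apply]
    simp only [Algebra.smul_def, RingHom.algebraMap_toAlgebra]
  have : Module.Free A S := Module.Free.of_equiv (LinearEquiv.ofBijective _ hbij)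
  exact Module.Flat.of_free

theorem frobenius_flat {ι : Type u} (x : ι → R)
    (hx : Function.Bijective
      (fun c : {e : ι →₀ ℕ // ∀ i, e i < p} →₀ R =>
        c.sum (fun e r => r ^ p * e.1.prod (fun i n => x i ^ n)))) : (frobenius R p).Flat :=
  flat_of_bijective_sum (frobenius R p) (fun e : {e : ι →₀ ℕ // ∀ i, e i < p} => e.1.prod fun i n => x i ^ n) hx

theorem iterateFrobenius_flat (h : (frobenius R p).Flat) : ∀ n, (iterateFrobenius R p n).Flat := by
  intro n
  induction n with
  | zero =>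
    refine RingHom.Flat.of_bijective ?_
    rw [iterateFrobenius_zero]
    exact bijective_id
  | succ n ih =>
    have e : iterateFrobenius R p (n + 1) = (frobenius R p).comp (iterateFrobenius R p n) := by
      ext a
      simp only [RingHom.comp_apply, iterateFrobenius_def, frobenius_def, pow_succ, pow_mul]
    rw [e]
    exact RingHom.Flat.comp ih h

lemma of_eq_mk (f : R) (n : ℕ) : PerfectClosure.of R p f = PerfectClosure.mk R p (n, f ^ p ^ n) := by
  rw [PerfectClosure.of_apply]
  refine PerfectClosure.R.sound R p n 0 f _ ?_ |>.trans (by rw [Nat.add_zero])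
  rw [← coe_iterateFrobenius, iterateFrobenius_def]

lemma mk_add_same (n : ℕ) (a b : R) :
    PerfectClosure.mk R p (n, a) + PerfectClosure.mk R p (n, b) = PerfectClosure.mk R p (n, a + b) := by
  rw [PerfectClosure.mk_add_mk, PerfectClosure.mk_eq_iff]
  refine ⟨0, ?_⟩
  simp only [← coe_iterateFrobenius, iterateFrobenius_def, map_add, Nat.add_zero]
  simp only [← pow_mul, ← pow_add]

lemma mk_mul_same (n : ℕ) (a b : R) :
    PerfectClosure.mk R p (n, a) * PerfectClosure.mk R p (n, b) = PerfectClosure.mk R p (n, a * b) := by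
  rw [PerfectClosure.mk_mul_mk, PerfectClosure.mk_eq_iff]
  refine ⟨0, ?_⟩
  simp only [← coe_iterateFrobenius, iterateFrobenius_def, Nat.add_zero]
  simp only [mul_pow, ← pow_mul, ← pow_add]

lemma mk_sum_same {l : ℕ} (n : ℕ) (w : Fin l → R) :
    ∑ i, PerfectClosure.mk R p (n, w i) = PerfectClosure.mk R p (n, ∑ i, w i) := by
  classical
  refine Finset.induction_on (motive := fun s => ∑ i ∈ s, PerfectClosure.mk R p (n, w i) =
    PerfectClosure.mk R p (n, ∑ i ∈ s, w i)) Finset.univ ?_ ?_
  · simp [PerfectClosure.mk_zero_right]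
  · intro a s ha ih
    rw [Finset.sum_insert ha, Finset.sum_insert ha, ih, mk_add_same]

lemma mk_lift (n N : ℕ) (hN : n ≤ N) (a : R) :
    PerfectClosure.mk R p (n, a) = PerfectClosure.mk R p (N, a ^ p ^ (N - n)) := by
  refine PerfectClosure.R.sound R p (N - n) n a _ ?_ |>.trans (by rw [Nat.sub_add_cancel hN])
  rw [← coe_iterateFrobenius, iterateFrobenius_def]

theorem flat (h : (frobenius R p).Flat) : (PerfectClosure.of R p).Flat := by
  algebraize [PerfectClosure.of R p]
  refine Module.Flat.of_forall_isTrivialRelation fun {l f z} hz => ?_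
  -- common level
  choose nz hnz using fun i => PerfectClosure.mk_surjective R p (z i)
  obtain ⟨n, hn⟩ : ∃ n, ∀ i, (nz i).1 ≤ n := ⟨Finset.univ.sup (fun i => (nz i).1), fun i =>
    Finset.le_sup (f := fun i => (nz i).1) (Finset.mem_univ i)⟩
  let y : Fin l → R := fun i => (nz i).2 ^ p ^ (n - (nz i).1)
  have hy : ∀ i, z i = PerfectClosure.mk R p (n, y i) := fun i => by
    rw [← hnz i]; exact mk_lift p _ _ (hn i) _
  have hsmul : ∀ (N : ℕ) (a b : R), a • PerfectClosure.mk R p (N, b) = PerfectClosure.mk R p (N, a ^ p ^ N * b) := by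
    intro N a b
    rw [Algebra.smul_def, RingHom.algebraMap_toAlgebra, of_eq_mk p a N, mk_mul_same]
  simp only [hy, hsmul, mk_sum_same] at hz
  rw [← PerfectClosure.mk_zero_right R p n, PerfectClosure.mk_eq_iff] at hz
  obtain ⟨m, hm⟩ := hz
  simp only [← coe_iterateFrobenius, map_zero, iterateFrobenius_def] at hm
  let N := n + (n + m)
  let w : Fin l → R := fun i => y i ^ p ^ (n + m)
  have hw : ∀ i, z i = PerfectClosure.mk R p (N, w i) := fun i => by
    rw [hy, mk_lift p n N (Nat.le_add_right _ _)]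
    simp [N, w]
  have hrel : ∑ i, f i ^ p ^ N * w i = 0 := by
    rw [sum_pow_char_pow] at hm
    rw [← hm]
    refine Finset.sum_congr rfl fun i _ => ?_
    simp only [N, w, mul_pow, ← pow_mul, ← pow_add]
  have hflat : (iterateFrobenius R p N).Flat := iterateFrobenius_flat p h N
  obtain ⟨k, a, v, hav, hfa⟩ : ∃ (k : ℕ) (a : Fin l → Fin k → R) (v : Fin k → R),
      (∀ i, w i = ∑ j, a i j ^ p ^ N * v j) ∧ ∀ j, ∑ i, f i * a i j = 0 := by
    let A : Algebra R R := (iterateFrobenius R p N).toAlgebra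
    obtain ⟨k, a, v, h1, h2⟩ := @Module.Flat.isTrivialRelation_of_sum_smul_eq_zero R R _ _ A.toModule hflat
      (Fin l) _ f w hrel
    exact ⟨k, a, v, fun i => h1 i, h2⟩
  refine ⟨k, a, fun j => PerfectClosure.mk R p (N, v j), fun i => ?_, hfa⟩
  rw [hw, hav]
  simp only [hsmul, mk_sum_same]

theorem main {ι : Type u} (x : ι → R)
    (hx : Function.Bijective
      (fun c : {e : ι →₀ ℕ // ∀ i, e i < p} →₀ R =>
        c.sum (fun e r => r ^ p * e.1.prod (fun i n => x i ^ n)))) :
    (PerfectClosure.of R p).FaithfullyFlat := by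
  refine RingHom.FaithfullyFlat.iff_flat_and_comap_surjective.2 ⟨flat p (frobenius_flat p x hx), ?_⟩
  intro P
  have hsound : ∀ u v : ℕ × R, PerfectClosure.R R p u v → (u.2 ∈ P.asIdeal ↔ v.2 ∈ P.asIdeal) := by
    rintro _ _ ⟨n, a⟩
    exact (P.isPrime.pow_mem_iff_mem p hp.out.pos).symm
  let mem : PerfectClosure R p → Prop := fun z => PerfectClosure.liftOn z (fun u => u.2 ∈ P.asIdeal)
    (fun u v huv => propext (hsound u v huv))
  have hmem : ∀ n a, mem (PerfectClosure.mk R p (n, a)) ↔ a ∈ P.asIdeal := fun n a => Iff.rfl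
  have hpm : ∀ (n : ℕ) (a : R), a ^ p ^ n ∈ P.asIdeal ↔ a ∈ P.asIdeal := fun n a =>
    P.isPrime.pow_mem_iff_mem _ (pow_pos hp.out.pos n)
  have hcommon : ∀ z z' : PerfectClosure R p, ∃ n a b,
      z = PerfectClosure.mk R p (n, a) ∧ z' = PerfectClosure.mk R p (n, b) := by
    intro z z'
    obtain ⟨⟨n, a⟩, rfl⟩ := PerfectClosure.mk_surjective R p z
    obtain ⟨⟨n', b⟩, rfl⟩ := PerfectClosure.mk_surjective R p z'
    exact ⟨max n n', _, _, mk_lift p _ _ (le_max_left _ _) _, mk_lift p _ _ (le_max_right _ _) _⟩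
  let Q : Ideal (PerfectClosure R p) :=
    { carrier := {z | mem z}
      zero_mem' := (hmem 0 0).2 (zero_mem _)
      add_mem' := by
        intro z z' hz hz'
        obtain ⟨n, a, b, rfl, rfl⟩ := hcommon z z'
        rw [Set.mem_ofPred_eq, mk_add_same, hmem]
        exact add_mem hz hz'
      smul_mem' := by
        intro c z hz
        obtain ⟨n, a, b, rfl, rfl⟩ := hcommon c z
        rw [Set.mem_ofPred_eq, smul_eq_mul, mk_mul_same, hmem]
        exact P.asIdeal.mul_mem_left _ hz }
  have hQ : Q.IsPrime := by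
    refine ⟨fun h => P.isPrime.ne_top ?_, fun {z z'} hzz => ?_⟩
    · rw [Ideal.eq_top_iff_one] at h ⊢
      exact (hmem 0 1).1 (PerfectClosure.one_def R p ▸ h)
    · obtain ⟨n, a, b, rfl, rfl⟩ := hcommon z z'
      have : mem (PerfectClosure.mk R p (n, a) * PerfectClosure.mk R p (n, b)) := hzz
      rw [mk_mul_same, hmem] at this
      exact P.isPrime.mem_or_mem this
  refine ⟨⟨Q, hQ⟩, PrimeSpectrum.ext (Ideal.ext fun a => ?_)⟩
  show mem (PerfectClosure.of R p a) ↔ _
  rw [PerfectClosure.of_apply, hmem]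

end Groth.Agent.PBasisPerf
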